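import Mathlib.RingTheory.Etale.QuasiFinite
import Mathlib.RingTheory.Spectrum.Prime.Topology
import Groth.Agent.Lib.EtaPt.SpecResidue

/-!
The étale neighbourhood of a quasi-finite point, with the residue field of the distinguished point.
-/

set_option autoImplicit false

universe u

open TensorProduct AlgebraicGeometry CategoryTheory

namespace Groth.Agent.Lib.QFNhd44.Algebra

variable {R B : Type u} [CommRing R] [CommRing B] [Algebra R B]

/-- If the residue fields of `R` and `R'` at the point agree, so do those of `B` and of any ring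
generated by `R'` and `B`. -/
theorem residueFieldMap_bijective {R' C : Type u} [CommRing R'] [CommRing C] [Algebra R R']
    [Algebra R' C] [Algebra R C] [IsScalarTower R R' C] (ψ : B →ₐ[R] C)
    (hgen : Algebra.adjoin R' (Set.range ψ) = ⊤)
    (p : Ideal R) [p.IsPrime] (q : Ideal B) [q.IsPrime] [q.LiesOver p]
    (P : Ideal R') [P.IsPrime] [P.LiesOver p] (Q : Ideal C) [Q.IsPrime] [Q.LiesOver P]
    (hq : q = Q.comap ψ.toRingHom)
    (hbij : Function.Bijective (Ideal.ResidueField.mapₐ p P (Algebra.ofId _ _) (P.over_def p))) :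
    Function.Bijective (Ideal.ResidueField.map q Q ψ.toRingHom hq) := by
  refine ⟨RingHom.injective _, ?_⟩
  let F := Ideal.ResidueField.map q Q ψ.toRingHom hq
  suffices h : ∀ c : C, algebraMap C Q.ResidueField c ∈ F.fieldRange by
    intro x
    obtain ⟨a, b, hb, rfl⟩ := IsFractionRing.div_surjective (A := C ⧸ Q) x
    obtain ⟨a, rfl⟩ := Ideal.Quotient.mk_surjective a
    obtain ⟨b, rfl⟩ := Ideal.Quotient.mk_surjective b
    exact RingHom.mem_fieldRange.1 (div_mem (h a) (h b))
  intro c
  have hc : c ∈ Algebra.adjoin R' (Set.range ψ) := by rw [hgen]; trivial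
  induction hc using Algebra.adjoin_induction with
  | mem c hc =>
    obtain ⟨s, rfl⟩ := hc
    exact ⟨algebraMap B q.ResidueField s, Ideal.ResidueField.map_algebraMap _ _ _ hq s⟩
  | add a b _ _ ha hb => rw [map_add]; exact add_mem ha hb
  | mul a b _ _ ha hb => rw [map_mul]; exact mul_mem ha hb
  | algebraMap r =>
    obtain ⟨a, ha⟩ := hbij.2 (algebraMap R' P.ResidueField r)
    let G : P.ResidueField →+* Q.ResidueField :=
      Ideal.ResidueField.map P Q (algebraMap R' C) (Q.over_def P)
    let J : p.ResidueField →+* q.ResidueField :=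
      Ideal.ResidueField.map p q (algebraMap R B) (q.over_def p)
    have hcomp : F.comp J = G.comp (Ideal.ResidueField.mapₐ p P (Algebra.ofId _ _) (P.over_def p)).toRingHom := by
      refine Ideal.ResidueField.ringHom_ext (RingHom.ext fun t => ?_)
      simp only [F, J, G, RingHom.comp_apply, Ideal.ResidueField.map_algebraMap]
      change algebraMap C Q.ResidueField (ψ (algebraMap R B t)) = G ((Ideal.ResidueField.mapₐ p P (Algebra.ofId _ _) (P.over_def p)) (algebraMap R _ t))
      rw [AlgHom.commutes, AlgHom.commutes, IsScalarTower.algebraMap_apply R R' P.ResidueField]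
      simp only [G, Ideal.ResidueField.map_algebraMap]
      rw [← IsScalarTower.algebraMap_apply R R' C]
    refine ⟨J a, (RingHom.congr_fun hcomp a).trans ?_⟩
    change G ((Ideal.ResidueField.mapₐ p P (Algebra.ofId _ _) (P.over_def p)) a) = _
    rw [ha]
    exact Ideal.ResidueField.map_algebraMap _ _ _ (Q.over_def P) r

theorem exists_nhd [Algebra.FiniteType R B] (q : PrimeSpectrum B) [Algebra.QuasiFiniteAt R q.asIdeal] :
    ∃ (R' : Type u) (_ : CommRing R') (_ : Algebra R R') (_ : Algebra.Etale R R')
      (e : R' ⊗[R] B) (Q : PrimeSpectrum (Localization.Away e)),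
      Module.Finite R' (Localization.Away e) ∧
      PrimeSpectrum.comap ((algebraMap (R' ⊗[R] B) (Localization.Away e)).comp
        (Algebra.TensorProduct.includeRight : B →ₐ[R] R' ⊗[R] B).toRingHom) Q = q ∧
      IsIso ((Spec.map (CommRingCat.ofHom ((algebraMap (R' ⊗[R] B) (Localization.Away e)).comp
        (Algebra.TensorProduct.includeRight : B →ₐ[R] R' ⊗[R] B).toRingHom))).residueFieldMap Q) ∧
      ∀ Q' : PrimeSpectrum (Localization.Away e),
        PrimeSpectrum.comap (algebraMap R' (Localization.Away e)) Q' =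
          PrimeSpectrum.comap (algebraMap R' (Localization.Away e)) Q → Q' = Q := by
  obtain ⟨R', _, _, _, P, _, _, e, he, P', _, _, hP', heP', hbij, hfin, huniq⟩ :=
    Algebra.exists_etale_isIdempotentElem_forall_liesOver_eq (q.asIdeal.under R) q.asIdeal
  obtain ⟨Q, hQ⟩ : (⟨P', inferInstance⟩ : PrimeSpectrum (R' ⊗[R] B)) ∈
      Set.range (PrimeSpectrum.comap (algebraMap _ (Localization.Away e))) := by
    rw [PrimeSpectrum.localization_away_comap_range _ e]
    exact heP'
  have hQ' : Q.asIdeal.comap (algebraMap _ (Localization.Away e)) = P' := congr(($hQ).asIdeal)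
  have hsurj : Function.Surjective (algebraMap (R' ⊗[R] B) (Localization.Away e)) := fun c => by
    obtain ⟨x, ⟨_, n, rfl⟩, rfl⟩ := IsLocalization.exists_mk'_eq (.powers e) c
    refine ⟨x, (IsLocalization.eq_mk'_iff_mul_eq).2 ?_⟩
    have hu : IsUnit (algebraMap (R' ⊗[R] B) (Localization.Away e) e) := IsLocalization.Away.algebraMap_isUnit e
    have he1 : algebraMap (R' ⊗[R] B) (Localization.Away e) e = 1 :=
      (IsUnit.mul_left_inj hu).1 (by rw [one_mul, ← map_mul, he])
    simp [he1]
  have hQP : Q.asIdeal.LiesOver P := ⟨by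
    rw [P'.over_def P, ← hQ', Ideal.under, Ideal.under, Ideal.comap_comap,
      ← IsScalarTower.algebraMap_eq]⟩
  let ψ : B →ₐ[R] Localization.Away e :=
    (IsScalarTower.toAlgHom R (R' ⊗[R] B) (Localization.Away e)).comp Algebra.TensorProduct.includeRight
  have hcomap : PrimeSpectrum.comap ψ.toRingHom Q = q := by
    ext1
    change Q.asIdeal.comap ((algebraMap _ (Localization.Away e)).comp _) = _
    rw [← Ideal.comap_comap, hQ']
    exact hP'
  have hgen : Algebra.adjoin R' (Set.range ψ) = ⊤ := by
    refine eq_top_iff.2 fun c _ => ?_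
    obtain ⟨t, rfl⟩ := hsurj c
    clear * -
    induction t using TensorProduct.induction_on with
    | zero => rw [map_zero]; exact zero_mem _
    | tmul r b =>
      rw [show r ⊗ₜ[R] b = algebraMap R' (R' ⊗[R] B) r * (1 ⊗ₜ b) by simp, map_mul,
        ← IsScalarTower.algebraMap_apply]
      exact mul_mem (Subalgebra.algebraMap_mem _ r) (Algebra.subset_adjoin ⟨b, rfl⟩)
    | add a b ha hb => rw [map_add]; exact add_mem ha hb
  refine ⟨R', inferInstance, inferInstance, inferInstance, e, Q, hfin, hcomap, ?_, fun Q' hQ'' => ?_⟩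
  · have hb := residueFieldMap_bijective ψ hgen (q.asIdeal.under R) q.asIdeal P Q.asIdeal
      congr(($(hcomap.symm)).asIdeal) hbij
    change IsIso ((Spec.map (CommRingCat.ofHom ψ.toRingHom)).residueFieldMap Q)
    have key : Function.Bijective (Ideal.ResidueField.map (PrimeSpectrum.comap ψ.toRingHom Q).asIdeal
        Q.asIdeal ψ.toRingHom rfl) := by
      subst hcomap
      exact hb
    have h := Groth.Agent.Lib.EtaPt.SpecResidue.residueFieldIso_square ψ.toRingHom Q
    have : IsIso (CommRingCat.ofHom (Ideal.ResidueField.map (PrimeSpectrum.comap ψ.toRingHom Q).asIdeal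
        Q.asIdeal ψ.toRingHom rfl)) := (ConcreteCategory.isIso_iff_bijective _).mpr key
    have : IsIso ((Scheme.Spec.residueFieldIso (.of B) (PrimeSpectrum.comap ψ.toRingHom Q)).inv ≫
        (Spec.map (CommRingCat.ofHom ψ.toRingHom)).residueFieldMap Q) := h ▸ IsIso.comp_isIso
    exact IsIso.of_isIso_comp_left (Scheme.Spec.residueFieldIso (.of B) (PrimeSpectrum.comap ψ.toRingHom Q)).inv _
  · apply PrimeSpectrum.localization_comap_injective (Localization.Away e) (.powers e)
    rw [hQ]
    refine PrimeSpectrum.ext (huniq _ inferInstance ⟨?_⟩ ?_)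
    · rw [hQP.over]
      change Ideal.comap _ Q.asIdeal = Ideal.comap _ (Ideal.comap _ Q'.asIdeal)
      rw [Ideal.comap_comap, ← IsScalarTower.algebraMap_eq]
      exact congr($(hQ''.symm).asIdeal)
    · intro h
      exact Q'.isPrime.ne_top (Ideal.eq_top_of_isUnit_mem _ h (IsLocalization.Away.algebraMap_isUnit e))

end Groth.Agent.Lib.QFNhd44.Algebra
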